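-- INTERFACE FILE (helper3, limit theorem project P9): exact statements of sub-lemmas WANTED. Bodies are `sorry` on purpose;
-- nothing imports this file. If you prove one, put it in YOUR Lib with the same statement and tell helper3 the import path.
import Groth.Prelude.Def_EtBase
import Groth.Prelude.Def_EtCech
import Mathlib.AlgebraicGeometry.AffineTransitionLimit

set_option autoImplicit false
universe u
open CategoryTheory CategoryTheory.Limits AlgebraicGeometry Opposite

namespace Groth.Agent.Lib.Helper3.Lim.Ifc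

/-- (GEOM) descended finite affine covers are cofinal among covering sieves of a descended qcqs object. -/
theorem exists_descended_cover
    {ι : Type u} [Preorder ι] [IsDirected ι (· ≤ ·)] (Xs : ιᵒᵖ ⥤ Scheme.{u})
    (haff : ∀ ⦃a b : ιᵒᵖ⦄ (h : a ⟶ b), IsAffineHom (Xs.map h))
    (hqc : ∀ a, CompactSpace ↥(Xs.obj a)) (hqs : ∀ a, QuasiSeparatedSpace ↥(Xs.obj a))
    (c : Cone Xs) (hc : IsLimit c)
    (j : ι) (V : (Xs.obj (op j)).Etale) [CompactSpace V.left] [QuasiSeparatedSpace V.left]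
    (S : Sieve ((EtCoh.bc (c.π.app (op j))).obj V))
    (hS : S ∈ c.pt.smallEtaleTopology ((EtCoh.bc (c.π.app (op j))).obj V)) :
    ∃ (k : ι) (hjk : j ≤ k) (n : ℕ) (W : Fin n → (Xs.obj (op k)).Etale)
      (f : ∀ b, W b ⟶ (EtCoh.bc (Xs.map (homOfLE hjk).op)).obj V),
      (∀ b, IsAffine (W b).left) ∧
      (∀ x : ((EtCoh.bc (Xs.map (homOfLE hjk).op)).obj V).left,
        ∃ (b : Fin n) (y : (W b).left), (f b).left.base y = x) ∧
      ∀ b, ∃ g : (EtCoh.bc (c.π.app (op k))).obj (W b) ⟶ (EtCoh.bc (c.π.app (op j))).obj V,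
        S.arrows g ∧
        g.left ≫ (pullback.fst V.hom (c.π.app (op j)) :
            ((EtCoh.bc (c.π.app (op j))).obj V).left ⟶ V.left) =
          (pullback.fst (W b).hom (c.π.app (op k)) :
            ((EtCoh.bc (c.π.app (op k))).obj (W b)).left ⟶ (W b).left) ≫ (f b).left ≫
            (pullback.fst V.hom (Xs.map (homOfLE hjk).op) :
              ((EtCoh.bc (Xs.map (homOfLE hjk).op)).obj V).left ⟶ V.left) := by
  sorry

/-- (LOCAL) a section of `f⁻¹G` is etale-locally the pullback of a section of `G`. -/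
theorem exists_local_rep {X Y : Scheme.{u}} (f : X ⟶ Y) (G : EtCoh.Ab Y) (W : X.Etale)
    (s : EtCoh.sect ((EtCoh.pull f).obj G) W) (w : W.left) :
    ∃ (W' : X.Etale) (r : W' ⟶ W) (_ : w ∈ Set.range r.left.base) (Y' : Y.Etale)
      (a : W' ⟶ (EtCoh.bc f).obj Y') (g : EtCoh.sect G Y'),
      ((EtCoh.pull f).obj G).obj.map r.op s =
        ((EtCoh.pull f).obj G).obj.map a.op
          (((EtCoh.pullPushAdj f).unit.app G).hom.app (op Y') g) := by
  sorry

/-- (INJ) if the pullback of a section `g` of `G` over `V` vanishes on `W → V ×_Y X`, then `g`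
vanishes etale-locally around the image in `V` of every point of `W`. -/
theorem exists_nbhd_eq_zero {X Y : Scheme.{u}} (f : X ⟶ Y) (G : EtCoh.Ab Y) (V : Y.Etale)
    (g : EtCoh.sect G V) (W : X.Etale) (a : W ⟶ (EtCoh.bc f).obj V)
    (h : ((EtCoh.pull f).obj G).obj.map a.op
      (((EtCoh.pullPushAdj f).unit.app G).hom.app (op V) g) = 0) (w : W.left) :
    ∃ (V' : Y.Etale) (r : V' ⟶ V),
      (a.left ≫ (pullback.fst V.hom f : ((EtCoh.bc f).obj V).left ⟶ V.left)).base w ∈
        Set.range r.left.base ∧ G.obj.map r.op g = 0 := by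
  sorry

/-- (CARTAN-LIM) Cartan's criterion on the limit, tested on covers coming from the stages. -/
theorem H_subsingleton_of_cech_vanish_on_stages
    {ι : Type u} [Preorder ι] [IsDirected ι (· ≤ ·)] [Nonempty ι] (Xs : ιᵒᵖ ⥤ Scheme.{u})
    (haff : ∀ ⦃a b : ιᵒᵖ⦄ (h : a ⟶ b), IsAffineHom (Xs.map h))
    (hqc : ∀ a, CompactSpace ↥(Xs.obj a)) (hqs : ∀ a, QuasiSeparatedSpace ↥(Xs.obj a))
    (c : Cone Xs) (hc : IsLimit c) (M : EtCoh.Ab c.pt)
    [∀ (j : ι) (V : (Xs.obj (op j)).Etale), HasFiniteProducts (Over V)]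
    (hM : ∀ (j : ι) (V : (Xs.obj (op j)).Etale), CompactSpace V.left → QuasiSeparatedSpace V.left →
      ∀ (n : ℕ) (Uf : ULift.{u + 1} (Fin n) → Over V),
      (∀ b, IsAffine (Uf b).left.left) →
      (∀ x : V.left, ∃ (b : ULift.{u + 1} (Fin n)) (y : (Uf b).left.left),
        (Uf b).hom.left.base y = x) →
      ∀ q : ℕ, IsZero (EtCech.cechH Uf ((EtCoh.push (c.π.app (op j))).obj M).obj (q + 1)))
    (p : ℕ) : Subsingleton (EtCoh.H c.pt M (p + 1)) := by
  sorry

end Groth.Agent.Lib.Helper3.Lim.Ifc
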